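import Mathlib.AlgebraicGeometry.Morphisms.FlatDescent
import Mathlib.AlgebraicGeometry.Morphisms.LocalFlatDescent
import Mathlib.AlgebraicGeometry.Morphisms.Finite
import Mathlib.AlgebraicGeometry.Morphisms.Proper
import Mathlib.AlgebraicGeometry.Morphisms.QuasiFinite
import Mathlib.RingTheory.Flat.FaithfullyFlat.Descent
import Mathlib.RingTheory.Finiteness.Descent
import Mathlib.AlgebraicGeometry.Morphisms.Integral

/-!
# fpqc descent of properties of morphisms
-/

universe u

open CategoryTheory CategoryTheory.Limits AlgebraicGeometry MorphismProperty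
open scoped TensorProduct

namespace Groth.Agent.FpqcDesc

/-- The fpqc coverings. -/
abbrev FPQC : MorphismProperty Scheme.{u} := @Surjective ⊓ @Flat ⊓ @QuasiCompact

set_option backward.isDefEq.respectTransparency.types false in
theorem descendsAlong_quasiCompact : DescendsAlong @QuasiCompact FPQC.{u} := by
  refine DescendsAlong.mk' fun {X Y Z} f g _ hf hg => ⟨fun U hU hcU => ?_⟩
  obtain ⟨⟨hs, -⟩, hqc⟩ := hf
  have e : g ⁻¹' U = pullback.snd f g '' (pullback.fst f g ⁻¹' (f ⁻¹' U)) := by
    ext y
    refine ⟨fun hy => ?_, ?_⟩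
    · obtain ⟨x, hx⟩ := hs.surj (g y)
      obtain ⟨z, hz₁, hz₂⟩ := Scheme.Pullback.exists_preimage_pullback (f := f) (g := g) x y hx
      refine ⟨z, ?_, hz₂⟩
      simp only [Set.mem_preimage, hz₁, hx]
      exact hy
    · rintro ⟨z, hz, rfl⟩
      simp only [Set.mem_preimage] at hz ⊢
      rwa [← Scheme.Hom.comp_apply, ← pullback.condition, Scheme.Hom.comp_apply]
  rw [e]
  exact (QuasiCompact.isCompact_preimage _ (hU.preimage f.continuous)
    (QuasiCompact.isCompact_preimage U hU hcU)).image (pullback.snd f g).continuous

set_option backward.isDefEq.respectTransparency.types false in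
theorem descendsAlong_quasiSeparated : DescendsAlong @QuasiSeparated FPQC.{u} := by
  have := descendsAlong_quasiCompact.{u}
  rw [quasiSeparated_eq_diagonal_is_quasiCompact]
  infer_instance

set_option backward.isDefEq.respectTransparency.types false in
theorem descendsAlong_isAffineHom : DescendsAlong @IsAffineHom FPQC.{u} := by
  apply IsZariskiLocalAtTarget.descendsAlong_inf_quasiCompact
  · rw [inf_comm]
    exact inf_le_inf le_rfl (IsLocalIso.le_of_isZariskiLocalAtSource _)
  intro R T Y φ g h (hfst : IsAffineHom _)
  have := descendsAlong_quasiCompact.{u}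
  have := descendsAlong_quasiSeparated.{u}
  have hqc : QuasiCompact g := MorphismProperty.of_pullback_fst_of_descendsAlong
    (P := @QuasiCompact) (Q := FPQC) (f := Spec.map φ) ⟨h, inferInstance⟩ inferInstance
  have hqs : QuasiSeparated g := MorphismProperty.of_pullback_fst_of_descendsAlong
    (P := @QuasiSeparated) (Q := FPQC) (f := Spec.map φ) ⟨h, inferInstance⟩ inferInstance
  have : CompactSpace Y := QuasiCompact.compactSpace_of_compactSpace g
  have : QuasiSeparatedSpace Y := quasiSeparatedSpace_of_quasiSeparated g
  have : Flat (Spec.map φ) := h.2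
  have : Surjective (Spec.map φ) := h.1
  let Y' := pullback (Spec.map φ) g
  have : IsAffine Y' := isAffine_of_isAffineHom (pullback.fst (Spec.map φ) g)
  suffices IsAffine Y from inferInstance
  have H : IsPullback (pullback.snd (Spec.map φ) g) (pullback.fst (Spec.map φ) g) g (Spec.map φ) :=
    (IsPullback.of_hasPullback _ _).flip
  have hiso := isIso_pushoutSection_of_isQuasiSeparated_of_flat_right H
    (US := ⊤) (UT := ⊤) (UX := ⊤) (UY := ⊤) (by simp) (by simp) (by simp)
    (isAffineOpen_top _) (isAffineOpen_top _) isCompact_univ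
    (isQuasiSeparated_univ_iff.2 inferInstance)
  have hpo := (isIso_pushoutSection_iff ..).1 hiso
  have e : ∀ {A B : Scheme.{u}} (f : A ⟶ B) (h : (⊤ : A.Opens) ≤ f ⁻¹ᵁ ⊤),
      f.appLE ⊤ ⊤ h = f.appTop := fun {A B} f h => by simp [Scheme.Hom.appLE, Scheme.Hom.appTop]
  simp only [e] at hpo
  have hS : IsPullback (Spec.map (pullback.snd (Spec.map φ) g).appTop)
      (Spec.map (pullback.fst (Spec.map φ) g).appTop) (Spec.map g.appTop)
      (Spec.map (Spec.map φ).appTop) := by
    have := (hpo.op.map Scheme.Spec)
    simpa using this.flip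
  -- the square relating `Y'` and `Y` to their affinizations is cartesian
  have hsq : IsPullback (pullback.snd (Spec.map φ) g) Y'.toSpecΓ Y.toSpecΓ
      (Spec.map (pullback.snd (Spec.map φ) g).appTop) := by
    refine IsPullback.of_bot ?_ (Scheme.toSpecΓ_naturality (pullback.snd (Spec.map φ) g)) hS
    refine H.of_iso (Iso.refl _) (Iso.refl _) (asIso (Spec T).toSpecΓ) (asIso (Spec R).toSpecΓ)
      (by simp) ?_ ?_ ?_
    · simpa using (Scheme.toSpecΓ_naturality (pullback.fst (Spec.map φ) g))
    · simpa using (Scheme.toSpecΓ_naturality g)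
    · simpa using (Scheme.toSpecΓ_naturality (Spec.map φ))
  have hq : FPQC (Spec.map (pullback.snd (Spec.map φ) g).appTop) := by
    have hfpqc : FPQC (Spec.map (Spec.map φ).appTop) := by
      have e := Scheme.toSpecΓ_naturality (Spec.map φ)
      have : Spec.map (Spec.map φ).appTop =
          (asIso (Spec T).toSpecΓ).inv ≫ Spec.map φ ≫ (Spec R).toSpecΓ := by
        rw [e, asIso_inv, IsIso.inv_hom_id_assoc]
      rw [this, cancel_left_of_respectsIso FPQC, cancel_right_of_respectsIso FPQC]
      exact ⟨⟨inferInstance, inferInstance⟩, inferInstance⟩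
    exact MorphismProperty.of_isPullback hS.flip hfpqc
  exact ⟨MorphismProperty.of_isPullback_of_descendsAlong (P := isomorphisms Scheme.{u}) (Q := FPQC)
    hsq.flip hq (IsAffine.affine (X := Y'))⟩

set_option backward.isDefEq.respectTransparency.types false in
theorem descendsAlong_of_affineAnd {P : MorphismProperty Scheme.{u}} [P.IsStableUnderBaseChange]
    {Q : ∀ {R S : Type u} [CommRing R] [CommRing S], (R →+* S) → Prop}
    (hP : HasAffineProperty P (affineAnd Q)) (hQ : RingHom.RespectsIso Q)
    (hQQ' : RingHom.CodescendsAlong Q RingHom.FaithfullyFlat) :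
    DescendsAlong P FPQC := by
  have := hP.isLocal_affineProperty
  have := descendsAlong_isAffineHom.{u}
  have : IsZariskiLocalAtTarget P := inferInstance
  apply IsZariskiLocalAtTarget.descendsAlong_inf_quasiCompact
  · rw [inf_comm]
    exact inf_le_inf le_rfl (IsLocalIso.le_of_isZariskiLocalAtSource _)
  intro R T Y φ g h hfst
  have : IsAffineHom g := MorphismProperty.of_pullback_fst_of_descendsAlong
    (P := @IsAffineHom) (Q := FPQC) (f := Spec.map φ) ⟨h, inferInstance⟩
    (HasAffineProperty.affineAnd_le_isAffineHom P hP _ hfst)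
  have : IsAffine Y := isAffine_of_isAffineHom g
  wlog hY : ∃ S, Y = Spec S generalizing Y
  · rw [← P.cancel_left_of_respectsIso Y.isoSpec.inv]
    have heq : pullback.fst (Spec.map φ) (Y.isoSpec.inv ≫ g) =
        pullback.map _ _ _ _ (𝟙 _) (Y.isoSpec.inv) (𝟙 _) (by simp) (by simp) ≫
          pullback.fst (Spec.map φ) g := (pullback.lift_fst _ _ _).symm
    refine this _ ?_ inferInstance inferInstance ⟨_, rfl⟩
    rwa [heq, P.cancel_left_of_respectsIso]
  obtain ⟨Y, rfl⟩ := hY
  refine of_pullback_fst_Spec_of_codescendsAlong (P := P) (P' := @Surjective ⊓ @Flat) hQQ'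
    ?_ ?_ h hfst
  · intro _ _ f hf
    rwa [← flat_and_surjective_SpecMap_iff, and_comm]
  · exact fun {_ _ _} => HasAffineProperty.SpecMap_iff_of_affineAnd hP hQ _

set_option backward.isDefEq.respectTransparency.types false in
theorem descendsAlong_isClosedImmersion : DescendsAlong @IsClosedImmersion FPQC.{u} :=
  descendsAlong_of_affineAnd (Q := fun f => Function.Surjective f) IsClosedImmersion.hasAffineProperty
    RingHom.surjective_respectsIso RingHom.FaithfullyFlat.codescendsAlong_surjective

set_option backward.isDefEq.respectTransparency.types false in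
theorem descendsAlong_isFinite : DescendsAlong @IsFinite FPQC.{u} :=
  descendsAlong_of_affineAnd (Q := RingHom.Finite) inferInstance RingHom.finite_respectsIso
    RingHom.Finite.codescendsAlong_faithfullyFlat

set_option backward.isDefEq.respectTransparency.types false in
theorem descendsAlong_isSeparated : DescendsAlong @IsSeparated FPQC.{u} := by
  have := descendsAlong_isClosedImmersion.{u}
  rw [IsSeparated.isSeparated_eq_diagonal_isClosedImmersion]
  infer_instance

set_option backward.isDefEq.respectTransparency.types false in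
theorem descendsAlong_isProper : DescendsAlong @IsProper FPQC.{u} := by
  have := descendsAlong_isSeparated.{u}
  rw [isProper_eq]
  infer_instance

theorem codescendsAlong_isIntegral :
    RingHom.CodescendsAlong (fun {R S : Type u} [CommRing R] [CommRing S] (f : R →+* S) =>
      f.IsIntegral) RingHom.FaithfullyFlat := by
  refine RingHom.CodescendsAlong.mk _ RingHom.isIntegral_respectsIso ?_
  intro R S T _ _ _ _ _ hff hint x
  rw [RingHom.faithfullyFlat_algebraMap_iff] at hff
  let A : Subalgebra R T := Algebra.adjoin R {x}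
  have : Algebra.FiniteType R A :=
    (Subalgebra.fg_iff_finiteType A).1 (Subalgebra.fg_adjoin_finset (R := R) {x} |> fun h => by
      simpa using h)
  let f : S ⊗[R] A →ₐ[S] S ⊗[R] T := Algebra.TensorProduct.map (AlgHom.id S S) A.val
  have hf : Function.Injective f :=
    Module.Flat.lTensor_preserves_injective_linearMap (M := S) A.val.toLinearMap
      Subtype.val_injective
  have : Algebra.IsIntegral S (S ⊗[R] A) := ⟨fun y => (isIntegral_algHom_iff f hf).1 (hint (f y))⟩
  have : Module.Finite S (S ⊗[R] A) := Algebra.IsIntegral.finite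
  have : Module.Finite R A := Module.Finite.of_finite_tensorProduct_of_faithfullyFlat S
  exact (IsIntegral.of_finite R (⟨x, Algebra.self_mem_adjoin_singleton R x⟩ : A)).map A.val

set_option backward.isDefEq.respectTransparency.types false in
theorem descendsAlong_isIntegralHom : DescendsAlong @IsIntegralHom FPQC.{u} :=
  descendsAlong_of_affineAnd (Q := fun f => f.IsIntegral) IsIntegralHom.hasAffineProperty
    RingHom.isIntegral_respectsIso codescendsAlong_isIntegral

theorem codescendsAlong_quasiFinite :
    RingHom.CodescendsAlong RingHom.QuasiFinite.{u, u} RingHom.FaithfullyFlat := by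
  refine RingHom.CodescendsAlong.mk _ RingHom.QuasiFinite.respectsIso ?_
  intro R S T _ _ _ _ _ hff hqf
  rw [RingHom.faithfullyFlat_algebraMap_iff] at hff
  rw [RingHom.quasiFinite_algebraMap] at hqf ⊢
  refine ⟨fun P hP => ?_⟩
  obtain ⟨⟨Q, hQ⟩, hQP⟩ := PrimeSpectrum.comap_surjective_of_faithfullyFlat
    (A := R) (B := S) ⟨P, hP⟩
  obtain rfl : Q.under R = P := congrArg PrimeSpectrum.asIdeal hQP
  let := Localization.AtPrime.algebraOfLiesOver (Q.under R) Q
  let e : Q.Fiber (S ⊗[R] T) ≃ₐ[Q.ResidueField]
      Q.ResidueField ⊗[(Q.under R).ResidueField] ((Q.under R).Fiber T) :=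
    (Algebra.TensorProduct.cancelBaseChange _ _ _ _ _).trans
      (Algebra.TensorProduct.cancelBaseChange _ _ _ _ _).symm
  have : Module.Finite Q.ResidueField
      (Q.ResidueField ⊗[(Q.under R).ResidueField] ((Q.under R).Fiber T)) :=
    Module.Finite.equiv e.toLinearEquiv
  exact Module.Finite.of_finite_tensorProduct_of_faithfullyFlat Q.ResidueField

set_option backward.isDefEq.respectTransparency.types false in
theorem descendsAlong_locallyQuasiFinite : DescendsAlong @LocallyQuasiFinite FPQC.{u} :=
  HasRingHomProperty.descendsAlong_flat codescendsAlong_quasiFinite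

end Groth.Agent.FpqcDesc
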